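import Groth.Agent.L15.FittFree
import Groth.Agent.L18.LocFreeFP
import Mathlib.LinearAlgebra.Dimension.Constructions

/-!
# Finite type modules of locally constant rank on reduced schemes
-/

set_option autoImplicit false
set_option linter.style.haveILetI false
set_option backward.isDefEq.respectTransparency.types false
set_option backward.isDefEq.respectTransparency false

universe u

open CategoryTheory CategoryTheory.Limits AlgebraicGeometry TopologicalSpace
open scoped TensorProduct

noncomputable section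

namespace Groth.L16.RankFree

variable {X : Scheme.{u}} (M : X.Modules)

/-- The fibre rank. -/
def rk (x : X) : ℕ :=
  Module.finrank (IsLocalRing.ResidueField (X.presheaf.stalk x))
    (IsLocalRing.ResidueField (X.presheaf.stalk x) ⊗[X.presheaf.stalk x] (M.presheaf.stalk x))

variable {V : X.Opens} {x : X} (hV : IsAffineOpen V) (hx : x ∈ V)

/-- Sections act on the residue field. -/
abbrev algK : Algebra Γ(X, V) (IsLocalRing.ResidueField (X.presheaf.stalk x)) :=
  ((IsLocalRing.residue (X.presheaf.stalk x)).comp (X.presheaf.germ V x hx).hom).toAlgebra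

include hV hx in
theorem rk_eq [Coh.IsQCoh M] :
    letI := algK hx
    rk M x = Module.finrank (IsLocalRing.ResidueField (X.presheaf.stalk x))
      (IsLocalRing.ResidueField (X.presheaf.stalk x) ⊗[Γ(X, V)] Γ(M, V)) := by
  let O := X.presheaf.stalk x
  let K := IsLocalRing.ResidueField O
  letI := algK (X := X) hx
  letI := X.presheaf.algebra_section_stalk ⟨x, hx⟩
  haveI := hV.isLocalization_stalk ⟨x, hx⟩
  haveI : IsScalarTower Γ(X, V) O K := IsScalarTower.of_algebraMap_eq' rfl
  letI := Groth.L20.ModStalk.stalkModule M hx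
  haveI : IsScalarTower Γ(X, V) O (M.presheaf.stalk x) := IsScalarTower.of_algebraMap_smul fun _ _ => rfl
  haveI := Groth.L20.ModStalk.isLocalizedModule_germ M hV hx
  have hst : IsBaseChange O (Groth.L20.ModStalk.germₗ M hx) :=
    IsLocalizedModule.isBaseChange (hV.primeIdealOf ⟨x, hx⟩).asIdeal.primeCompl O _
  exact ((TensorProduct.AlgebraTensorModule.congr (LinearEquiv.refl K K) hst.equiv.symm).trans
    (TensorProduct.AlgebraTensorModule.cancelBaseChange Γ(X, V) O K K Γ(M, V))).finrank_eq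

include hV hx in
theorem rk_eq_residueField [Coh.IsQCoh M] :
    rk M x = Module.finrank (hV.primeIdealOf ⟨x, hx⟩).asIdeal.ResidueField
      ((hV.primeIdealOf ⟨x, hx⟩).asIdeal.ResidueField ⊗[Γ(X, V)] Γ(M, V)) := by
  rw [rk_eq M hV hx]
  let O := X.presheaf.stalk x
  let K := IsLocalRing.ResidueField O
  let p := (hV.primeIdealOf ⟨x, hx⟩).asIdeal
  letI := algK (X := X) hx
  letI := X.presheaf.algebra_section_stalk ⟨x, hx⟩
  haveI := hV.isLocalization_stalk ⟨x, hx⟩
  have hmem : ∀ r, algebraMap Γ(X, V) K r = 0 ↔ r ∈ p := fun r => by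
    rw [show algebraMap Γ(X, V) K r = IsLocalRing.residue O (algebraMap Γ(X, V) O r) from rfl,
      IsLocalRing.residue_eq_zero_iff]
    exact IsLocalization.AtPrime.to_map_mem_maximal_iff O p r
  let L : p.ResidueField →+* K := Ideal.ResidueField.lift p (algebraMap Γ(X, V) K)
    (fun r hr => (hmem r).2 hr) (fun r hr => isUnit_iff_ne_zero.2 fun h => hr ((hmem r).1 h))
  letI := L.toAlgebra
  haveI : IsScalarTower Γ(X, V) p.ResidueField K := IsScalarTower.of_algebraMap_eq' (by
    ext r; show algebraMap Γ(X, V) K r = L (algebraMap Γ(X, V) p.ResidueField r); simp [L])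
  exact ((TensorProduct.AlgebraTensorModule.cancelBaseChange Γ(X, V) p.ResidueField K K
    Γ(M, V)).symm.finrank_eq).trans (Module.finrank_baseChange)

include hV hx in
theorem rk_eq_of_bijective [Coh.IsQCoh M] {n : ℕ}
    (φ : (ULift.{u} (Fin n) →₀ Γ(X, V)) →ₗ[Γ(X, V)] Γ(M, V)) (hφ : Function.Bijective φ) :
    rk M x = n := by
  haveI : Nonempty V := ⟨⟨x, hx⟩⟩
  let e := LinearEquiv.ofBijective φ hφ
  haveI : Module.Free Γ(X, V) Γ(M, V) := Module.Free.of_equiv e
  rw [rk_eq_residueField M hV hx, Module.finrank_baseChange, ← e.finrank_eq,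
    Module.finrank_finsupp_self, Fintype.card_ulift, Fintype.card_fin]

include hV in
theorem injective_of_rk_eq [Coh.IsQCoh M] [IsReduced X] {n : ℕ}
    (φ : (ULift.{u} (Fin n) →₀ Γ(X, V)) →ₗ[Γ(X, V)] Γ(M, V)) (hφ : Function.Surjective φ)
    (hrk : ∀ z ∈ V, rk M z = n) : Function.Injective φ := by
  rw [← LinearMap.ker_eq_bot, LinearMap.ker_eq_bot']
  intro v hv
  ext i
  rw [Finsupp.zero_apply, ← basicOpen_eq_bot_iff]
  refine eq_bot_iff.2 fun z hz => ?_
  have hzV : z ∈ V := X.basicOpen_le _ hz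
  rw [Scheme.mem_basicOpen X (v i) z hzV] at hz
  let K := IsLocalRing.ResidueField (X.presheaf.stalk z)
  letI := algK (X := X) hzV
  let ψ := φ.baseChange K
  have hψ : Function.Surjective ψ := fun y => LinearMap.lTensor_surjective K hφ y
  let b := TensorProduct.finsuppScalarRight Γ(X, V) K K (ULift.{u} (Fin n))
  have hd : Module.finrank K (K ⊗[Γ(X, V)] (ULift.{u} (Fin n) →₀ Γ(X, V))) =
      Module.finrank K (K ⊗[Γ(X, V)] Γ(M, V)) := by
    rw [← rk_eq M hV hzV, hrk z hzV, b.finrank_eq, Module.finrank_finsupp_self, Fintype.card_ulift,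
      Fintype.card_fin]
  haveI : FiniteDimensional K (K ⊗[Γ(X, V)] (ULift.{u} (Fin n) →₀ Γ(X, V))) :=
    Module.Finite.equiv b.symm
  haveI : FiniteDimensional K (K ⊗[Γ(X, V)] Γ(M, V)) := Module.Finite.of_surjective ψ hψ
  have hinj : Function.Injective ψ := (LinearMap.injective_iff_surjective_of_finrank_eq_finrank hd).2 hψ
  have h1 : (1 : K) ⊗ₜ[Γ(X, V)] v = 0 := hinj (by
    rw [map_zero]
    exact (LinearMap.baseChange_tmul _ _ _).trans (by rw [hv, TensorProduct.tmul_zero]))
  have h2 := congrArg (fun t => b t i) h1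
  simp only [b, TensorProduct.finsuppScalarRight_apply_tmul_apply, map_zero, Finsupp.zero_apply] at h2
  rw [Algebra.smul_def, mul_one] at h2
  exact absurd (IsLocalRing.residue_eq_zero_iff _ |>.1 h2)
    (fun hm => (IsLocalRing.mem_maximalIdeal _).1 hm hz)

/-- The criterion. -/
theorem isFinLocFree_iff [IsReduced X] [Coh.IsQCoh M] :
    FlatMod.IsFinLocFree M ↔ CohB1.IsFT M ∧ IsLocallyConstant (rk M) := by
  constructor
  · intro h
    haveI := Groth.L18.LFP.isFP_of_isFinLocFree M h
    refine ⟨inferInstance, (IsLocallyConstant.iff_exists_open _).2 fun x => ?_⟩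
    obtain ⟨U, n, hxU, ⟨e⟩⟩ := h x
    have key : ∀ z ∈ U, rk M z = n := fun z hz => by
      obtain ⟨_, ⟨W, hW, rfl⟩, hzW, hWU⟩ := X.isBasis_affineOpens.exists_subset_of_mem_open hz U.isOpen
      obtain ⟨φ, hs, hi⟩ := Groth.L15.FittSheaf.exists_sections_of_free_hom M e.inv hW hWU
      exact rk_eq_of_bijective M hW hzW φ ⟨hi inferInstance, hs⟩
    exact ⟨U, U.isOpen, hxU, fun z hz => (key z hz).trans (key x hxU).symm⟩
  · rintro ⟨hft, hlc⟩ x
    obtain ⟨O, hO, hxO, hconst⟩ := (IsLocallyConstant.iff_exists_open _).1 hlc x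
    obtain ⟨_, ⟨V, hV, rfl⟩, hxV, -⟩ :=
      X.isBasis_affineOpens.exists_subset_of_mem_open hxO hO
    replace hV : IsAffineOpen V := hV
    haveI := Groth.L20.ModStalk.finite_sections M ⟨inferInstance, hft⟩ hV
    have hns : x ∉ (Fitt.sheafIdeal M (rk M x)).support :=
      (Groth.L15.FittSheaf.notMem_support_iff M hft _ (U := ⟨V, hV⟩) hxV).2
        ((Groth.L13.Fitting.not_le_iff_finrank _ _).2 (rk_eq_residueField M hV hxV).ge)
    obtain ⟨W₀, hW₀, hxW₀, φ₀, hφ₀⟩ := Groth.L15.FittSheaf.exists_gens_of_notMem_support M hft hns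
    obtain ⟨π₀, hπ₀, -⟩ := Groth.L15.FittSheaf.exists_free_hom_of_sections M hW₀ φ₀ hφ₀
    haveI := hπ₀
    have hxR : x ∈ hW₀.fromSpec.opensRange := by rw [hW₀.opensRange_fromSpec]; exact hxW₀
    obtain ⟨_, ⟨W, hW, rfl⟩, hxW, hWsub⟩ := X.isBasis_affineOpens.exists_subset_of_mem_open
      (show x ∈ hW₀.fromSpec.opensRange ⊓ ⟨O, hO⟩ from ⟨hxR, hxO⟩) (hW₀.fromSpec.opensRange ⊓ ⟨O, hO⟩).isOpen
    obtain ⟨φ, hφ, -⟩ := Groth.L15.FittSheaf.exists_sections_of_free_hom M π₀ hW
      (fun z hz => (hWsub hz).1)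
    have hinj := injective_of_rk_eq M hW φ hφ (fun z hz => hconst z (hWsub hz).2)
    obtain ⟨π, -, hπ⟩ := Groth.L15.FittSheaf.exists_free_hom_of_sections M hW φ hφ
    haveI := hπ hinj
    exact ⟨hW.fromSpec.opensRange, rk M x, by rw [hW.opensRange_fromSpec]; exact hxW, ⟨(asIso π).symm⟩⟩

end Groth.L16.RankFree
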